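import Groth.Agent.AlgSpDec.FreeQuotSep
import Mathlib.RingTheory.Unramified.Field
import Mathlib.RingTheory.Etale.Field
import Mathlib.FieldTheory.Normal.Closure
import Mathlib.FieldTheory.Galois.Basic

/-!
# Field points of quotients by free actions lift to Galois equivariant points
-/

set_option autoImplicit false
set_option backward.isDefEq.respectTransparency false
set_option backward.isDefEq.respectTransparency.types false

universe u

open CategoryTheory Limits AlgebraicGeometry AlgSp Groth.Agent.AlgSpLib Groth.Agent.AlgSpPts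

namespace Groth.Agent.GalData13

open Groth.Agent.AlgSpDec Groth.Agent.AlgSpDec.FreeAction

variable {S : Scheme.{u}} {U : Over S} {G : Type u} [Group G] {ρ : G →* Aut U}
  (hfree : ∀ (g : G) (x : U.left), g ≠ 1 →
    U.left.fromSpecResidueField x ≫ (ρ g).hom.left ≠ U.left.fromSpecResidueField x)
  {c : Cofan (fun _ : G => U)} (hc : IsColimit c) {s t : c.pt ⟶ U}
  (hs : ∀ g, c.inj g ≫ s = 𝟙 U) (ht : ∀ g, c.inj g ≫ t = (ρ g).hom)
include hfree hc hs ht

/-- Two field valued points with the same class differ by a group element. -/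
theorem exists_translate {K : Type u} [Field K] (str : Spec (CommRingCat.of K) ⟶ S)
    (a b : Over.mk str ⟶ U) (h : (yon S).map a ≫ quotMap s t = (yon S).map b ≫ quotMap s t) :
    ∃ g, a = b ≫ (ρ g).hom := by
  have sq := isPullback_quotMap (isEtaleEqvRel hfree hc hs ht).toIsEqvRel
  obtain ⟨r, hr⟩ := (yon S).map_surjective (sq.lift _ _ h)
  have h1 : r ≫ t = a := (yon S).map_injective (by rw [Functor.map_comp, hr, sq.lift_fst])
  have h2 : r ≫ s = b := (yon S).map_injective (by rw [Functor.map_comp, hr, sq.lift_snd])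
  let p : (Over.mk str).left := IsLocalRing.closedPoint K
  obtain ⟨g, v, hv⟩ := exists_inj hc (r.left p)
  haveI := isOpenImmersion_inj hc g
  have hsub : Set.range r.left ⊆ Set.range (c.inj g).left := by
    rintro _ ⟨q, rfl⟩
    have : q = p := @Subsingleton.elim (PrimeSpectrum K) _ q p
    exact ⟨v, this ▸ hv⟩
  let y : Over.mk str ⟶ U := Over.homMk (IsOpenImmersion.lift (c.inj g).left r.left hsub) (by
    rw [← Over.w (c.inj g), IsOpenImmersion.lift_fac_assoc]
    exact Over.w r)
  have hy : y ≫ c.inj g = r := Over.OverMorphism.ext (IsOpenImmersion.lift_fac _ _ _)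
  refine ⟨g, ?_⟩
  rw [← h1, ← h2, ← hy, Category.assoc, ht, Category.assoc, Category.assoc]
  exact congrArg (y ≫ ·) ((Category.id_comp _).symm.trans ((congrArg (· ≫ (ρ g).hom) (hs g).symm).trans (Category.assoc _ _ _)))

omit hc hs ht in
theorem translate_unique {K : Type u} [Field K] (str : Spec (CommRingCat.of K) ⟶ S)
    (b : Over.mk str ⟶ U) {g h : G} (e : b ≫ (ρ g).hom = b ≫ (ρ h).hom) : g = h :=
  eq_of_comp_eq hfree (T := Over.mk str) (IsLocalRing.closedPoint K : Spec (CommRingCat.of K)) b
    (congrArg (fun m => (Over.mk str).left.fromSpecResidueField _ ≫ m.left) e)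

/-- The quotient map is etale and surjective. -/
theorem repWith_quotMap : RepWith @Etale (quotMap s t) ∧ RepWith @Surjective (quotMap s t) := by
  have H := isEtaleEqvRel hfree hc hs ht
  haveI := H.etale_left
  haveI := H.etale_right
  haveI : Surjective s.left := ⟨fun u => ⟨(c.inj 1).left u, by rw [← Scheme.Hom.comp_apply, ← Over.comp_left, hs]; rfl⟩⟩
  haveI : Sheaf.IsLocallySurjective (quotMap s t) := by
    have : Epi (QuotSh.quotπ Scheme.fppfPrecoverage s t) := by
      unfold QuotSh.quotπ
      infer_instance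
    exact (CategoryTheory.Sheaf.isLocallySurjective_iff_epi (quotMap s t)).2 (epi_comp _ _)
  have sq := isPullback_quotMap H.toIsEqvRel
  have hr : Representable (quotMap s t) := representable_of_kernelPair sq
  haveI := isLocalAtTarget_fppf (@Etale : MorphismProperty Scheme.{u})
  haveI := isLocalAtTarget_fppf (@Surjective : MorphismProperty Scheme.{u})
  exact ⟨repWith_of_locallySurjective hr _ sq @Etale ((repWith_yon_map_iff _ _).2 ‹Etale s.left›),
    repWith_of_locallySurjective hr _ sq @Surjective ((repWith_yon_map_iff _ _).2 ‹Surjective s.left›)⟩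

/-- A field valued point of the quotient lifts after a finite Galois extension. -/
theorem exists_galois_lift {k : Type u} [Field k] (σ : Spec (CommRingCat.of k) ⟶ S)
    (ξ : (yon S).obj (Over.mk σ) ⟶ QuotSh.quot Scheme.fppfPrecoverage s t) :
    ∃ (K : Type u) (_ : Field K) (_ : Algebra k K) (_ : FiniteDimensional k K) (_ : IsGalois k K)
      (x : Over.mk (Spec.map (CommRingCat.ofHom (algebraMap k K)) ≫ σ) ⟶ U),
      (yon S).map x ≫ quotMap s t =
        (yon S).map (Over.homMk (Spec.map (CommRingCat.ofHom (algebraMap k K))) :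
          Over.mk (Spec.map (CommRingCat.ofHom (algebraMap k K)) ≫ σ) ⟶ Over.mk σ) ≫ ξ := by
  obtain ⟨he, hsj⟩ := repWith_quotMap hfree hc hs ht
  let P := he.rep.pullback ξ
  let π : P ⟶ Over.mk σ := he.rep.snd ξ
  have sq := he.rep.isPullback ξ
  haveI : Etale π.left := he.property ξ _ _ sq
  haveI : Surjective π.left := hsj.property ξ _ _ sq
  obtain ⟨x₁, hx₁⟩ := (yon S).map_surjective (he.rep.fst ξ)
  obtain ⟨z, -⟩ := π.left.surjective (IsLocalRing.closedPoint k : Spec (CommRingCat.of k))
  obtain ⟨W, hW, hzW, -⟩ :=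
    exists_isAffineOpen_mem_and_subset (U := (⊤ : P.left.Opens)) (TopologicalSpace.Opens.mem_top z)
  let w : Spec Γ(P.left, W) ⟶ Spec (CommRingCat.of k) := hW.fromSpec ≫ π.left
  let ψ := Spec.preimage w
  have hψe : ψ.hom.Etale := by
    rw [← HasRingHomProperty.Spec_iff (P := @Etale), Spec.map_preimage]
    infer_instance
  algebraize [ψ.hom]
  have hψ : algebraMap k Γ(P.left, W) = ψ.hom := RingHom.algebraMap_toAlgebra _
  haveI : Nonempty W := ⟨⟨z, hzW⟩⟩
  haveI : Nontrivial Γ(P.left, W) := inferInstance
  obtain ⟨m, hm⟩ := Ideal.exists_maximal Γ(P.left, W)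
  letI := Ideal.Quotient.field m
  let L := Γ(P.left, W) ⧸ m
  haveI : Algebra.FormallyUnramified k L := Algebra.FormallyUnramified.quotient _
  haveI : Algebra.EssFiniteType k L := Algebra.EssFiniteType.comp k Γ(P.left, W) L
  haveI : Module.Finite k L := Algebra.FormallyUnramified.finite_of_free k L
  haveI : Algebra.IsSeparable k L := Algebra.FormallyUnramified.isSeparable k L
  let Ω := SeparableClosure k
  let φ₀ : L →ₐ[k] Ω := IsSepClosed.lift
  letI : Algebra L Ω := φ₀.toRingHom.toAlgebra
  haveI : IsScalarTower k L Ω := IsScalarTower.of_algebraMap_eq' φ₀.comp_algebraMap.symm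
  let K := IntermediateField.normalClosure k L Ω
  haveI : IsGalois k K := IsGalois.normalClosure k L Ω
  let φ : Γ(P.left, W) →ₐ[k] K := (IsScalarTower.toAlgHom k L K).comp (Ideal.Quotient.mkₐ k m)
  let f : Over.mk (Spec.map (CommRingCat.ofHom (algebraMap k K)) ≫ σ) ⟶ P :=
    Over.homMk (Spec.map (CommRingCat.ofHom φ.toRingHom) ≫ hW.fromSpec) (by
      show (Spec.map _ ≫ hW.fromSpec) ≫ P.hom = Spec.map _ ≫ σ
      rw [← Over.w π, Category.assoc]
      refine (congrArg (Spec.map (CommRingCat.ofHom φ.toRingHom) ≫ ·) (Category.assoc _ _ _).symm).trans ?_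
      change Spec.map _ ≫ w ≫ σ = _
      rw [← Spec.map_preimage w, ← Category.assoc, ← Spec.map_comp]
      congr 2
      ext y
      exact congrArg (fun z : K => ((z : Ω) : AlgebraicClosure k)) ((congrArg φ (RingHom.congr_fun hψ y)).symm.trans (φ.commutes y)))
  refine ⟨K, inferInstance, inferInstance, inferInstance, inferInstance, f ≫ x₁, ?_⟩
  have hfπ : f ≫ π = Over.homMk (Spec.map (CommRingCat.ofHom (algebraMap k K))) := by
    apply Over.OverMorphism.ext
    show (Spec.map _ ≫ hW.fromSpec) ≫ π.left = Spec.map _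
    rw [Category.assoc]
    change Spec.map _ ≫ w = _
    rw [← Spec.map_preimage w, ← Spec.map_comp]
    congr 1
    ext y
    exact congrArg (fun z : K => ((z : Ω) : AlgebraicClosure k)) ((congrArg φ (RingHom.congr_fun hψ y)).symm.trans (φ.commutes y))
  rw [Functor.map_comp, Category.assoc, hx₁, sq.w, ← Category.assoc, ← Functor.map_comp, hfπ]

end Groth.Agent.GalData13
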