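import Groth.Agent.GalData13.Basic
import Mathlib.AlgebraicGeometry.Morphisms.Flat

/-!
# Galois data of a field point of a quotient by a free action
-/

set_option autoImplicit false
set_option backward.isDefEq.respectTransparency false
set_option backward.isDefEq.respectTransparency.types false

universe u

open CategoryTheory Limits AlgebraicGeometry AlgSp Groth.Agent.AlgSpLib Groth.Agent.AlgSpPts

namespace Groth.Agent.GalData13

open Groth.Agent.AlgSpDec Groth.Agent.AlgSpDec.FreeAction

/-- The object over `S` of an extension of a field. -/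
noncomputable abbrev ext {S : Scheme.{u}} {k : Type u} [Field k] (σ : Spec (CommRingCat.of k) ⟶ S)
    (K : Type u) [Field K] [Algebra k K] : Over S :=
  Over.mk (Spec.map (CommRingCat.ofHom (algebraMap k K)) ≫ σ)

/-- An automorphism of an extension as a morphism over `S`. -/
noncomputable def autHom {S : Scheme.{u}} {k : Type u} [Field k] (σ : Spec (CommRingCat.of k) ⟶ S)
    {K : Type u} [Field K] [Algebra k K] (τ : K ≃ₐ[k] K) : ext σ K ⟶ ext σ K :=
  Over.homMk (Spec.map (CommRingCat.ofHom τ.toRingEquiv.toRingHom)) (by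
    show Spec.map _ ≫ Spec.map _ ≫ σ = Spec.map _ ≫ σ
    rw [← Category.assoc, ← Spec.map_comp]
    congr 2
    ext y
    exact τ.commutes y)

variable {S : Scheme.{u}} {U : Over S} {G : Type u} [Group G] {ρ : G →* Aut U}
  (hfree : ∀ (g : G) (x : U.left), g ≠ 1 →
    U.left.fromSpecResidueField x ≫ (ρ g).hom.left ≠ U.left.fromSpecResidueField x)
  {c : Cofan (fun _ : G => U)} (hc : IsColimit c) {s t : c.pt ⟶ U}
  (hs : ∀ g, c.inj g ≫ s = 𝟙 U) (ht : ∀ g, c.inj g ≫ t = (ρ g).hom)
include hfree hc hs ht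

/-- The character of the Galois group attached to a lift of a field point. -/
theorem exists_character {k : Type u} [Field k] (σ : Spec (CommRingCat.of k) ⟶ S)
    (ξ : (yon S).obj (Over.mk σ) ⟶ QuotSh.quot Scheme.fppfPrecoverage s t)
    {K : Type u} [Field K] [Algebra k K] (x : ext σ K ⟶ U)
    (hx : (yon S).map x ≫ quotMap s t =
      (yon S).map (Over.homMk (Spec.map (CommRingCat.ofHom (algebraMap k K))) : ext σ K ⟶ Over.mk σ) ≫ ξ) :
    ∃ ψ : (K ≃ₐ[k] K) →* G, ∀ τ, autHom σ τ.symm ≫ x = x ≫ (ρ (ψ τ)).hom := by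
  have key : ∀ τ : K ≃ₐ[k] K, ∃ g, autHom σ τ.symm ≫ x = x ≫ (ρ g).hom := fun τ => by
    refine exists_translate hfree hc hs ht _ _ _ ?_
    rw [Functor.map_comp, Category.assoc, hx, ← Category.assoc, ← Functor.map_comp]
    congr 2
    apply Over.OverMorphism.ext
    show Spec.map _ ≫ Spec.map _ = Spec.map _
    rw [← Spec.map_comp]
    congr 1
    ext y
    exact τ.symm.commutes y
  choose g hg using key
  have hone : g 1 = 1 := translate_unique hfree _ x (by
    rw [← hg, map_one]
    refine Eq.trans ?_ (Category.comp_id x).symm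
    refine (congrArg (· ≫ x) (?_ : autHom σ (1 : K ≃ₐ[k] K).symm = 𝟙 (ext σ K))).trans (Category.id_comp x)
    apply Over.OverMorphism.ext
    exact Spec.map_id _)
  refine ⟨⟨⟨g, hone⟩, fun τ₁ τ₂ => translate_unique hfree _ x ?_⟩, hg⟩
  rw [← hg, hom_mul, ← Category.assoc, ← hg τ₂, Category.assoc, ← hg τ₁, ← Category.assoc]
  congr 1
  apply Over.OverMorphism.ext
  show Spec.map _ = Spec.map _ ≫ Spec.map _
  rw [← Spec.map_comp]
  congr 1

/-- Galois data of a field point. -/
theorem exists_galois_data {k : Type u} [Field k] (σ : Spec (CommRingCat.of k) ⟶ S)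
    (ξ : (yon S).obj (Over.mk σ) ⟶ QuotSh.quot Scheme.fppfPrecoverage s t) :
    ∃ (k' : Type u) (_ : Field k') (_ : Algebra k k') (_ : FiniteDimensional k k') (_ : IsGalois k k')
      (H : Subgroup G) (_ : Finite H) (e : H ≃* (k' ≃ₐ[k] k'))
      (x' : ext σ k' ⟶ U),
      (∀ h : H, Spec.map (CommRingCat.ofHom (e h).symm.toRingEquiv.toRingHom) ≫ x'.left =
        x'.left ≫ (ρ (h : G)).hom.left) ∧
      (yon S).map x' ≫ quotMap s t =
        (yon S).map (Over.homMk (Spec.map (CommRingCat.ofHom (algebraMap k k'))) :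
          ext σ k' ⟶ Over.mk σ) ≫ ξ := by
  obtain ⟨K, _, _, _, _, x, hx⟩ := exists_galois_lift hfree hc hs ht σ ξ
  obtain ⟨ψ, hψ⟩ := exists_character hfree hc hs ht σ ξ x hx
  let L : IntermediateField k K := IntermediateField.fixedField ψ.ker
  let res : (K ≃ₐ[k] K) →* (L ≃ₐ[k] L) := AlgEquiv.restrictNormalHom L
  have hres : Function.Surjective res := AlgEquiv.restrictNormalHom_surjective K
  have hker : ψ.ker = res.ker :=
    (IntermediateField.fixingSubgroup_fixedField ψ.ker).symm.trans L.restrictNormalHom_ker.symm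
  let e : ψ.range ≃* (L ≃ₐ[k] L) :=
    ((QuotientGroup.quotientKerEquivRange ψ).symm.trans (QuotientGroup.quotientMulEquivOfEq hker)).trans
      (QuotientGroup.quotientKerEquivOfSurjective res hres)
  have he : ∀ τ, e ⟨ψ τ, τ, rfl⟩ = res τ := fun τ => by
    have : (QuotientGroup.quotientKerEquivRange ψ).symm ⟨ψ τ, τ, rfl⟩ = (τ : _ ⧸ ψ.ker) := by
      rw [MulEquiv.symm_apply_eq]
      rfl
    show (QuotientGroup.quotientKerEquivOfSurjective res hres)
      (QuotientGroup.quotientMulEquivOfEq hker ((QuotientGroup.quotientKerEquivRange ψ).symm ⟨ψ τ, τ, rfl⟩)) = _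
    rw [this]
    rfl
  haveI : Finite ψ.range := Finite.of_equiv _ e.symm.toEquiv
  -- descend the point to `L`
  obtain ⟨⟨u, φ⟩, hφ⟩ := (Scheme.SpecToEquivOfField K U.left).symm.surjective x.left
  have hx' : Spec.map φ ≫ U.left.fromSpecResidueField u = x.left := hφ
  have hinv : ∀ τ ∈ ψ.ker, ∀ a, τ (φ.hom a) = φ.hom a := by
    intro τ hτ a
    have h1 : autHom σ τ.symm.symm.symm ≫ x = x := by
      rw [AlgEquiv.symm_symm, hψ]
      rw [MonoidHom.mem_ker.1 hτ, map_one]
      exact Category.comp_id _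
    have h2 : Spec.map (φ ≫ CommRingCat.ofHom τ.symm.toRingEquiv.toRingHom) ≫ U.left.fromSpecResidueField u =
        Spec.map φ ≫ U.left.fromSpecResidueField u := by
      rw [Spec.map_comp, Category.assoc, hx']
      exact congrArg (fun m => m.left) h1
    have h3 := (Scheme.SpecToEquivOfField K U.left).symm.injective
      (a₁ := ⟨u, φ ≫ CommRingCat.ofHom τ.symm.toRingEquiv.toRingHom⟩) (a₂ := ⟨u, φ⟩) h2
    have h4 : τ.symm (φ.hom a) = φ.hom a :=
      ConcreteCategory.congr_hom (eq_of_heq (Sigma.mk.inj_iff.1 h3).2) a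
    exact (congrArg τ h4.symm).trans (τ.apply_symm_apply _)
  let φ' : U.left.residueField u ⟶ CommRingCat.of L :=
    CommRingCat.ofHom (φ.hom.codRestrict L.toSubfield.toSubring fun a => fun ⟨τ, hτ⟩ => hinv τ hτ a)
  let ι : Spec (CommRingCat.of K) ⟶ Spec (CommRingCat.of L) := Spec.map (CommRingCat.ofHom (algebraMap L K))
  haveI : Flat ι := by
    rw [HasRingHomProperty.Spec_iff (P := @Flat)]
    exact RingHom.flat_algebraMap_iff.2 inferInstance
  haveI : Surjective ι := ⟨fun p => ⟨IsLocalRing.closedPoint K, @Subsingleton.elim (PrimeSpectrum L) _ _ p⟩⟩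
  haveI := Flat.epi_of_flat_of_surjective ι
  let y : Spec (CommRingCat.of L) ⟶ U.left := Spec.map φ' ≫ U.left.fromSpecResidueField u
  have hy : ι ≫ y = x.left := by
    rw [← hx', ← Category.assoc, ← Spec.map_comp]
    rfl
  have hι : ι ≫ Spec.map (CommRingCat.ofHom (algebraMap k L)) = Spec.map (CommRingCat.ofHom (algebraMap k K)) := by
    rw [← Spec.map_comp]
    congr 1
  let x' : ext σ L ⟶ U := Over.homMk y (by
    rw [← cancel_epi ι, reassoc_of% hy]
    show x.left ≫ U.hom = ι ≫ Spec.map _ ≫ σ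
    rw [reassoc_of% hι]
    exact Over.w x)
  refine ⟨L, inferInstance, inferInstance, inferInstance, inferInstance, ψ.range, inferInstance, e, x', ?_, ?_⟩
  · rintro ⟨_, τ, rfl⟩
    rw [he]
    change Spec.map _ ≫ y = y ≫ _
    rw [← cancel_epi ι, reassoc_of% hy]
    refine (Category.assoc _ _ _).symm.trans ?_
    refine Eq.trans ?_ (congrArg (fun m => m.left) (hψ τ))
    show _ = Spec.map _ ≫ x.left
    rw [← hy]
    refine Eq.trans (congrArg (· ≫ y) ?_) (Category.assoc _ _ _)
    rw [← Spec.map_comp, ← Spec.map_comp]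
    congr 1
    ext a
    show ((res τ).symm a : K) = τ.symm (a : K)
    rw [AlgEquiv.eq_symm_apply]
    refine (AlgEquiv.restrictNormal_commutes τ L ((res τ).symm a)).symm.trans ?_
    exact congrArg (algebraMap L K) ((res τ).apply_symm_apply a)
  · let π : ext σ K ⟶ ext σ L := Over.homMk ι (by
      show ι ≫ Spec.map _ ≫ σ = Spec.map _ ≫ σ
      rw [reassoc_of% hι])
    haveI : Etale π.left := by
      show Etale ι
      haveI : Algebra.IsSeparable L K := Algebra.isSeparable_tower_top_of_isSeparable k L K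
      haveI : Algebra.FormallyEtale L K := Algebra.FormallyEtale.of_isSeparable L K
      haveI : Algebra.FinitePresentation L K := Algebra.FinitePresentation.of_finiteType.1 inferInstance
      haveI : Algebra.Etale L K := ⟨inferInstance, inferInstance⟩
      rw [HasRingHomProperty.Spec_iff (P := @Etale)]
      exact RingHom.etale_algebraMap.2 inferInstance
    haveI : Epi ((yon S).map π) := epi_of_etale_surjective ((repWith_yon_map_iff _ _).2 ‹Etale π.left›)
      ((repWith_yon_map_iff _ _).2 ‹Surjective ι›)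
    rw [← cancel_epi ((yon S).map π)]
    have h1 : π ≫ x' = x := Over.OverMorphism.ext hy
    have h2 : π ≫ (Over.homMk (Spec.map (CommRingCat.ofHom (algebraMap k L))) : ext σ L ⟶ Over.mk σ) =
        Over.homMk (Spec.map (CommRingCat.ofHom (algebraMap k K))) := Over.OverMorphism.ext hι
    refine ((Category.assoc _ _ _).symm.trans (congrArg (· ≫ quotMap s t)
      (((yon S).map_comp _ _).symm.trans (congrArg (yon S).map h1)))).trans (hx.trans ?_)
    exact ((Category.assoc _ _ _).symm.trans (congrArg (· ≫ ξ)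
      (((yon S).map_comp _ _).symm.trans (congrArg (yon S).map h2)))).symm

end Groth.Agent.GalData13
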